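import Mathlib
import Cfsg.Prelude.Def_Classical
import Cfsg.Agent.CosetCert.Basic

/-!
Small matrices over `ZMod 3` on the coordinates of `quadFormOdd 3`, evaluated on packed vectors.
-/

namespace Cfsg.Agent.CosetCert.O73

/-- The coordinates. -/
abbrev Idx : Type := Unit ⊕ (Fin 3 ⊕ Fin 3)

/-- The position of a coordinate. -/
def pos : Idx → Nat
  | .inl _ => 0
  | .inr (.inl i) => 1 + i.val
  | .inr (.inr i) => 4 + i.val

/-- The vector of a code: base four digits. -/
def decode (v : Nat) : Idx → ZMod 3 := fun i => ((v / 4 ^ pos i % 4 : Nat) : ZMod 3)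

/-- The entry of a packed matrix: row `i` is the `i`th block of 14 bits. -/
def entry (M i j : Nat) : Nat := M / 4 ^ (7 * i + j) % 4

/-- The matrix of a packed matrix. -/
def toMat (M : Nat) : Matrix Idx Idx (ZMod 3) := fun i j => ((entry M (pos i) (pos j) : Nat) : ZMod 3)

/-- One coordinate of a product. -/
def coord (M v i : Nat) : Nat :=
  (entry M i 0 * (v / 4 ^ 0 % 4) + entry M i 1 * (v / 4 ^ 1 % 4) + entry M i 2 * (v / 4 ^ 2 % 4) +
    entry M i 3 * (v / 4 ^ 3 % 4) + entry M i 4 * (v / 4 ^ 4 % 4) + entry M i 5 * (v / 4 ^ 5 % 4) +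
    entry M i 6 * (v / 4 ^ 6 % 4)) % 3

/-- Prepend a digit. -/
def cons4 (a b : Nat) : Nat := a + 4 * b

theorem cons4_zero {a : Nat} (b : Nat) (ha : a < 4) : cons4 a b % 4 = a := by
  unfold cons4; rw [Nat.add_mul_mod_self_left, Nat.mod_eq_of_lt ha]

theorem cons4_succ {a : Nat} (b k : Nat) (ha : a < 4) :
    cons4 a b / 4 ^ (k + 1) % 4 = b / 4 ^ k % 4 := by
  unfold cons4
  rw [pow_succ', ← Nat.div_div_eq_div_mul, Nat.add_mul_div_left _ _ (by norm_num : 0 < 4),
    Nat.div_eq_of_lt ha, Nat.zero_add]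

/-- Pack seven digits. -/
def cons7 (f : Nat → Nat) : Nat :=
  cons4 (f 0) (cons4 (f 1) (cons4 (f 2) (cons4 (f 3) (cons4 (f 4) (cons4 (f 5) (f 6))))))

theorem pos_lt (i : Idx) : pos i < 7 := by
  rcases i with u | i | i <;> simp only [pos] <;> omega

theorem cons7_digit {f : Nat → Nat} (hf : ∀ k, f k < 4) (i : Idx) :
    cons7 f / 4 ^ pos i % 4 = f (pos i) := by
  have h := pos_lt i
  generalize pos i = k at h ⊢
  rcases k with _ | _ | _ | _ | _ | _ | _ | k
  all_goals first
    | omega
    | simp only [cons7, cons4_succ, cons4_zero, pow_zero, Nat.div_one, hf, Nat.mod_eq_of_lt]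

/-- Apply a packed matrix to a packed vector. -/
def step (M v : Nat) : Nat := cons7 (coord M v)

theorem coord_lt (M v k : Nat) : coord M v k < 4 :=
  lt_trans (Nat.mod_lt _ (by norm_num : (3 : Nat) > 0)) (by norm_num)

theorem decode_step (M v : Nat) : decode (step M v) = (toMat M).mulVec (decode v) := by
  funext i
  have hdig : step M v / 4 ^ pos i % 4 = coord M v (pos i) := cons7_digit (coord_lt M v) i
  simp only [decode, hdig, coord, ZMod.natCast_mod, Nat.cast_add, Nat.cast_mul, Matrix.mulVec,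
    dotProduct, Fintype.sum_sum_type, Finset.univ_unique, Finset.sum_singleton, Fin.sum_univ_three,
    toMat]
  simp only [pos, PUnit.default_eq_unit]
  norm_num
  ring

/-- Apply a word of matrices, the last one first. -/
noncomputable def run (Ms : List Nat) (v : Nat) : Nat :=
  List.rec v (fun M _ ih => force ih fun w => step M w) Ms

theorem decode_run (Ms : List Nat) (v : Nat) :
    decode (run Ms v) = ((Ms.map toMat).prod).mulVec (decode v) := by
  induction Ms with
  | nil => simp [run]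
  | cons M t ih =>
    have h : run (M :: t) v = step M (run t v) := by simp [run]
    rw [h, decode_step, ih, List.map_cons, List.prod_cons, Matrix.mulVec_mulVec]

/-- The `k`th unit vector. -/
def unit (k : Nat) : Nat := 4 ^ k

theorem decode_unit (j : Idx) : decode (unit (pos j)) = Pi.single j 1 := by
  have h : ∀ j i : Idx, decode (unit (pos j)) i = (Pi.single j (1 : ZMod 3) : Idx → ZMod 3) i := by
    decide +kernel
  exact funext (h j)

theorem prod_eq_one {Ms : List Nat} (h : ∀ k, k < 7 → run Ms (unit k) = unit k) :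
    (Ms.map toMat).prod = 1 := by
  apply Matrix.ext_of_mulVec_single
  intro j
  rw [Matrix.one_mulVec, ← decode_unit, ← decode_run, h]
  rcases j with u | j | j <;> simp [pos] <;> omega

/-- The quadratic form on packed vectors. -/
def qForm (v : Nat) : Nat :=
  ((v / 4 ^ 0 % 4) * (v / 4 ^ 0 % 4) + (v / 4 ^ 1 % 4) * (v / 4 ^ 4 % 4) +
    (v / 4 ^ 2 % 4) * (v / 4 ^ 5 % 4) + (v / 4 ^ 3 % 4) * (v / 4 ^ 6 % 4)) % 3

theorem qForm_decode (v : Nat) :
    Cfsg.quadFormOdd 3 (ZMod 3) (decode v) = ((qForm v : Nat) : ZMod 3) := by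
  simp only [qForm, ZMod.natCast_mod, Nat.cast_add, Nat.cast_mul, Cfsg.quadFormOdd,
    Fin.sum_univ_three, decode]
  norm_num [pos]
  ring

/-- The codes of all vectors, numbered by their ternary digits. -/
def nth (k : Nat) : Nat := cons7 fun i => k / 3 ^ i % 3

/-- Prepend a ternary digit. -/
def cons3 (a b : Nat) : Nat := a + 3 * b

theorem cons3_succ {a : Nat} (b k : Nat) (ha : a < 3) :
    cons3 a b / 3 ^ (k + 1) % 3 = b / 3 ^ k % 3 := by
  unfold cons3
  rw [pow_succ', ← Nat.div_div_eq_div_mul, Nat.add_mul_div_left _ _ (by norm_num : 0 < 3),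
    Nat.div_eq_of_lt ha, Nat.zero_add]

theorem cons3_zero {a : Nat} (b : Nat) (ha : a < 3) : cons3 a b % 3 = a := by
  unfold cons3; rw [Nat.add_mul_mod_self_left, Nat.mod_eq_of_lt ha]

theorem cons3_lt {a b n : Nat} (ha : a < 3) (hb : b < n) : cons3 a b < 3 * n := by
  unfold cons3; omega

theorem exists_nth (u : Idx → ZMod 3) : ∃ k, k < 2187 ∧ decode (nth k) = u := by
  have h : ∀ i, (u i).val < 3 := fun i => ZMod.val_lt _
  refine ⟨cons3 (u (.inl ())).val (cons3 (u (.inr (.inl 0))).val (cons3 (u (.inr (.inl 1))).val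
    (cons3 (u (.inr (.inl 2))).val (cons3 (u (.inr (.inr 0))).val
      (cons3 (u (.inr (.inr 1))).val (u (.inr (.inr 2))).val))))),
    cons3_lt (h _) (cons3_lt (h _) (cons3_lt (h _) (cons3_lt (h _) (cons3_lt (h _)
      (cons3_lt (h _) (h _)))))), ?_⟩
  funext i
  show ((_ : Nat) : ZMod 3) = _
  conv_rhs => rw [← ZMod.natCast_zmod_val (u i)]
  rw [nth, cons7_digit (fun k => lt_trans (Nat.mod_lt _ (by norm_num : (3:Nat) > 0)) (by norm_num)) i]
  congr 1
  rcases i with u' | i | i
  · simp only [pos, pow_zero, Nat.div_one]; exact cons3_zero _ (h _)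
  · fin_cases i <;> simp only [pos, Nat.reduceAdd] <;>
      (simp only [cons3_succ, cons3_zero, pow_zero, Nat.div_one, h, Nat.mod_eq_of_lt]; rfl)
  · fin_cases i <;> simp only [pos, Nat.reduceAdd] <;>
      (simp only [cons3_succ, cons3_zero, pow_zero, Nat.div_one, h, Nat.mod_eq_of_lt]; rfl)

theorem preserves {M : Nat} (h : ∀ k, k < 2187 → qForm (step M (nth k)) = qForm (nth k))
    (u : Idx → ZMod 3) :
    Cfsg.quadFormOdd 3 (ZMod 3) ((toMat M).mulVec u) = Cfsg.quadFormOdd 3 (ZMod 3) u := by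
  obtain ⟨k, hk, rfl⟩ := exists_nth u
  rw [← decode_step, qForm_decode, qForm_decode, h k hk]

end Cfsg.Agent.CosetCert.O73
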