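import Cfsg.Agent.CosetCert.Fi22Chain1.FullValid
import Cfsg.Agent.CosetCert.Fi22Chain1.Main
import Cfsg.Agent.CosetCert.Fi22Chain2.Main
import Cfsg.Agent.CosetCert.Fi22Chain3.Main
import Cfsg.Agent.CosetCert.Fi22Chain4.Main
import Cfsg.Agent.CosetCert.Fi22Chain5.Main
import Cfsg.Agent.CosetCert.O73.Levels
import Cfsg.Agent.CosetCert.O73.Mat
import Cfsg.Agent.CosetCert.O73.Orbits
import Cfsg.Agent.CosetCert.O73Collapse.Main
import Cfsg.Agent.CosetCert.Simple

/-! Generated: the presented group of O7(3) is simple. -/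

namespace Cfsg.Agent.CosetCert.O73

abbrev P : Type := PresentedGroup (wordRels Fi22Chain1.relWords)

theorem rels_one : ∀ l ∈ Fi22Chain1.relWords,
    PresentedGroup.mk (wordRels Fi22Chain1.relWords) (FreeGroup.mk l) = 1 :=
  Fi22Chain1.spells.rels_one

/-- The generators of level 5 among those of level 1. -/
def renIn5 : Fin 4 → Fin 8
  | ⟨0, _⟩ => 2
  | ⟨1, _⟩ => 3
  | ⟨2, _⟩ => 4
  | ⟨3, _⟩ => 6

/-- The generators of level 4 among those of level 1. -/
def renIn4 : Fin 5 → Fin 8
  | ⟨0, _⟩ => 1
  | ⟨1, _⟩ => 2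
  | ⟨2, _⟩ => 3
  | ⟨3, _⟩ => 4
  | ⟨4, _⟩ => 6

/-- The generators of level 3 among those of level 1. -/
def renIn3 : Fin 6 → Fin 8
  | ⟨0, _⟩ => 1
  | ⟨1, _⟩ => 2
  | ⟨2, _⟩ => 3
  | ⟨3, _⟩ => 4
  | ⟨4, _⟩ => 5
  | ⟨5, _⟩ => 6

/-- The generators of level 2 among those of level 1. -/
def renIn2 : Fin 7 → Fin 8
  | ⟨0, _⟩ => 0
  | ⟨1, _⟩ => 1
  | ⟨2, _⟩ => 2
  | ⟨3, _⟩ => 3
  | ⟨4, _⟩ => 4
  | ⟨5, _⟩ => 5
  | ⟨6, _⟩ => 6

theorem card_bound : Finite P ∧ Nat.card P ≤ 4585351680 := by
  have h6 := letterSub_nil_card (wordRels Fi22Chain1.relWords)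
  have h5 := letterSub_card_le renIn5 (List.finRange 4) Fi22Chain5.subLetters
    ([] : List (Fin 8)) rfl List.mem_finRange
    (fun l hl => rels_one _ (by
      have h : (Fi22Chain5.relWords.all fun l => decide (l.map (fun a => (renIn5 a.1, a.2)) ∈
          Fi22Chain1.relWords)) = true := by decide +kernel
      exact of_decide_eq_true (List.all_eq_true.1 h l hl)))
    Fi22Chain5.index_bound h6
  have h4 := letterSub_card_le renIn4 (List.finRange 5) Fi22Chain4.subLetters
    ([2, 3, 4, 6] : List (Fin 8)) rfl List.mem_finRange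
    (fun l hl => rels_one _ (by
      have h : (Fi22Chain4.relWords.all fun l => decide (l.map (fun a => (renIn4 a.1, a.2)) ∈
          Fi22Chain1.relWords)) = true := by decide +kernel
      exact of_decide_eq_true (List.all_eq_true.1 h l hl)))
    Fi22Chain4.index_bound h5
  have h3 := letterSub_card_le renIn3 (List.finRange 6) Fi22Chain3.subLetters
    ([1, 2, 3, 4, 6] : List (Fin 8)) rfl List.mem_finRange
    (fun l hl => rels_one _ (by
      have h : (Fi22Chain3.relWords.all fun l => decide (l.map (fun a => (renIn3 a.1, a.2)) ∈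
          Fi22Chain1.relWords)) = true := by decide +kernel
      exact of_decide_eq_true (List.all_eq_true.1 h l hl)))
    Fi22Chain3.index_bound h4
  have h2 := letterSub_card_le renIn2 (List.finRange 7) Fi22Chain2.subLetters
    ([1, 2, 3, 4, 5, 6] : List (Fin 8)) rfl List.mem_finRange
    (fun l hl => rels_one _ (by
      have h : (Fi22Chain2.relWords.all fun l => decide (l.map (fun a => (renIn2 a.1, a.2)) ∈
          Fi22Chain1.relWords)) = true := by decide +kernel
      exact of_decide_eq_true (List.all_eq_true.1 h l hl)))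
    Fi22Chain2.index_bound h3
  obtain ⟨hf, hc⟩ := card_le_top ([0, 1, 2, 3, 4, 5, 6] : List (Fin 8)) rfl
    Fi22Chain1.index_bound h2
  exact ⟨hf, hc.trans (by decide +kernel)⟩

theorem close_normal : ∀ M : Subgroup P, M.Normal →
    PresentedGroup.mk (wordRels Fi22Chain1.relWords)
      (FreeGroup.mk [((3 : Fin 8), true), ((7 : Fin 8), true), ((0 : Fin 8), true), ((5 : Fin 8), true), ((6 : Fin 8), true), ((4 : Fin 8), true), ((1 : Fin 8), true), ((2 : Fin 8), true)]) ∈ M → M = ⊤ := by
  intro M hM hz
  have hcheck : (O73Collapse.relWords.all fun l => decide ((l.map fun a => (id a.1, a.2)) ∈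
      [((3 : Fin 8), true), ((7 : Fin 8), true), ((0 : Fin 8), true), ((5 : Fin 8), true), ((6 : Fin 8), true), ((4 : Fin 8), true), ((1 : Fin 8), true), ((2 : Fin 8), true)] :: Fi22Chain1.relWords)) = true := by
    decide +kernel
  refine Data.normal_eq_top_of_mem O73Collapse.log_valid O73Collapse.spells rfl rfl id
    Function.surjective_id _ (fun l hl => ?_) M hM hz
  rcases List.mem_cons.1 (of_decide_eq_true (List.all_eq_true.1 hcheck l hl)) with h | h
  · exact Or.inr h
  · exact Or.inl (rels_one _ h)

noncomputable def suborbitList : List Data.Orb :=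
  [⟨orbSet0, 1, get48 orbStore0⟩, ⟨orbSet1, 25, get48 orbStore1⟩, ⟨orbSet2, 96, get48 orbStore2⟩]

theorem suborbits : Data.Suborbits Fi22Chain1.data suborbitList where
  ok := by
    simp only [suborbitList, List.forall_mem_cons, List.not_mem_nil, false_imp_iff, implies_true,
      and_true]
    exact ⟨⟨⟨by decide +kernel, by decide +kernel⟩, orb0_ok⟩, ⟨⟨by decide +kernel, by decide +kernel⟩, orb1_ok⟩, ⟨⟨by decide +kernel, by decide +kernel⟩, orb2_ok⟩⟩
  cover := by
    intro c hc
    have h : allFrom (fun c => Nat.beq c 0 || suborbitList.any fun o => o.set.testBit c) 0 3159 = true := by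
      decide +kernel
    rcases Bool.or_eq_true_iff.1 ((allFrom_iff _ _ _).1 h c (Nat.zero_le _) (by rw [Nat.zero_add]; exact hc)) with h | h
    · exact Or.inl (Nat.eq_of_beq_eq_true h)
    · exact Or.inr (List.any_eq_true.1 h)
  arith := by
    have h : ((Data.unions suborbitList).all fun u => decide
        (Data.count u 3159 ∣ 3159 → Data.count u 3159 = 1 ∨ Data.count u 3159 = 3159)) = true := by
      decide +kernel
    exact fun u hu => of_decide_eq_true (List.all_eq_true.1 h u hu)

theorem levels_ok : Fi22Chain1.data.LevelsOK [] [level0, level1, level2] :=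
  ⟨⟨by decide +kernel, gens0_ok, pts0_ok⟩, ⟨by decide +kernel, gens1_ok, pts1_ok⟩,
    ⟨by decide +kernel, gens2_ok, pts2_ok⟩, trivial⟩

/-- The word whose normal closure is everything. -/
def closeWord : List (Fin 8 × Bool) := [(3, true), (7, true), (0, true), (5, true), (6, true), (4, true), (1, true), (2, true)]

theorem order_and_simple : IsSimpleGroup P ∧ Nat.card P = 4585351680 :=
  Data.isSimpleGroup_of_cert Fi22Chain1.valid Fi22Chain1.spells (N := 4585351680)
    card_bound.1 card_bound.2 [level0, level1, level2] levels_ok (by decide +kernel)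
    suborbitList suborbits 13 1 (by norm_num) (by decide +kernel) (by decide +kernel)
    (by decide +kernel) closeWord 13 (by decide +kernel)
    (fun c hc => Nat.eq_of_beq_eq_true ((allFrom_iff
      (fun c => Nat.beq (Fi22Chain1.data.fwd (((List.replicate 13 closeWord).flatten).map
        (Data.code Fi22Chain1.data.iv Fi22Chain1.enc)) c) c) 0 3159).1 (by decide +kernel) c
      (Nat.zero_le _) (by rw [Nat.zero_add]; exact hc)))
    close_normal

/-- The images of the generators. -/
def mats : List Nat := [158456362844354589791378079746, 2797567720313498472271708162, 2478297967139506761175793666, 186079798498856949229456785410, 81725803294517964294538272896, 86735592172891434565017600002, 52696666301583296671406096386, 158458742880744928156292481026]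

theorem mats_square : ∀ k, k < 8 → ∀ j, j < 7 →
    run [mats.getD k 0, mats.getD k 0] (unit j) = unit j := by decide +kernel

theorem mats_preserve : ∀ k, k < 8 → ∀ v, v < 2187 →
    qForm (step (mats.getD k 0) (nth v)) = qForm (nth v) := by
  intro k hk v hv
  have h : allFrom (fun k => allFrom (fun v =>
      Nat.beq (qForm (step (mats.getD k 0) (nth v))) (qForm (nth v))) 0 2187) 0 8 = true := by
    decide +kernel
  exact Nat.eq_of_beq_eq_true ((allFrom_iff _ _ _).1 ((allFrom_iff _ _ _).1 h k (Nat.zero_le _)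
    (by omega)) v (Nat.zero_le _) (by omega))

theorem mats_relators : (Fi22Chain1.relWords.all fun l => (List.range 7).all fun j =>
    Nat.beq (run (l.map fun a => mats.getD a.1.val 0) (unit j)) (unit j)) = true := by decide +kernel

theorem mats_first_ne : run [mats.getD 0 0] (unit 0) ≠ unit 0 ∨ run [mats.getD 0 0] (unit 1) ≠ unit 1 ∨
    run [mats.getD 0 0] (unit 2) ≠ unit 2 ∨ run [mats.getD 0 0] (unit 3) ≠ unit 3 := by decide +kernel

end Cfsg.Agent.CosetCert.O73
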