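import Mathlib
import Cfsg.Prelude.Def_Classical
import Cfsg.Agent.AutPOmega.Odd
import Cfsg.Agent.CosetCert.O73.Simple
import Cfsg.Agent.CosetCert.Fi22Order.Main
import Cfsg.Agent.CosetCert.Fi22Index14080.Main

/-!
The subgroup on `b, …, i` of the presented `Fi₂₂` is `PΩ₇(3)`.
-/

namespace Cfsg.Agent.CosetCert.O73

open Matrix
open scoped commutatorElement

/-- The unit of a generator's matrix. -/
noncomputable def matUnit (b : Fin 8) : GL Idx (ZMod 3) where
  val := toMat (mats.getD b.val 0)
  inv := toMat (mats.getD b.val 0)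
  val_inv := by
    have := prod_eq_one (mats_square b.val b.isLt)
    simpa using this
  inv_val := by
    have := prod_eq_one (mats_square b.val b.isLt)
    simpa using this

theorem matUnit_preserves (b : Fin 8) :
    matUnit b ∈ Cfsg.isometryGroup (ZMod 3) (Cfsg.quadFormOdd 3 (ZMod 3)) :=
  fun u _ => preserves (mats_preserve b.val b.isLt) u

/-- The image of a generator in the isometry group. -/
noncomputable def img (b : Fin 8) :
    Cfsg.isometryGroup (ZMod 3) (Cfsg.quadFormOdd 3 (ZMod 3)) :=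
  ⟨matUnit b, matUnit_preserves b⟩

theorem lift_img_val (l : List (Fin 8 × Bool)) :
    (((FreeGroup.lift img (FreeGroup.mk l)).1 : GL Idx (ZMod 3)) : Matrix Idx Idx (ZMod 3)) =
      ((l.map fun a => mats.getD a.1.val 0).map toMat).prod := by
  induction l with
  | nil => rfl
  | cons a t ih =>
    have hsplit : FreeGroup.mk (a :: t) = FreeGroup.mk [a] * FreeGroup.mk t := by
      rw [FreeGroup.mul_mk]; rfl
    rw [hsplit, map_mul, List.map_cons, List.map_cons, List.prod_cons, ← ih]
    obtain ⟨b, _ | _⟩ := a <;>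
      · simp only [Subgroup.coe_mul, Units.val_mul, FreeGroup.lift_mk, List.map_cons, List.map_nil,
          List.prod_cons, List.prod_nil, mul_one]
        rfl

theorem exists_hom : ∃ χ : P →* Cfsg.isometryGroup (ZMod 3) (Cfsg.quadFormOdd 3 (ZMod 3)),
    ∀ b, χ (PresentedGroup.of b) = img b := by
  have hr : ∀ r ∈ wordRels Fi22Chain1.relWords, FreeGroup.lift img r = 1 := by
    intro r hr
    obtain ⟨l, hl, rfl⟩ := List.mem_map.1 hr
    apply Subtype.ext
    apply Units.ext
    rw [lift_img_val]
    apply prod_eq_one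
    intro k hk
    exact Nat.eq_of_beq_eq_true
      (List.all_eq_true.1 (List.all_eq_true.1 mats_relators l hl) k (List.mem_range.2 hk))
  exact ⟨PresentedGroup.toGroup hr, fun b => PresentedGroup.toGroup.of hr⟩

theorem commutator_eq_top : commutator P = ⊤ := by
  have hs := order_and_simple.1
  have hc := order_and_simple.2
  rcases hs.eq_bot_or_eq_top_of_normal (commutator P) inferInstance with h | h
  · exfalso
    have hcomm : ∀ x y : P, x * y = y * x := by
      intro x y
      have : ⁅x, y⁆ = (1 : P) := by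
        rw [← Subgroup.mem_bot, ← h]
        exact Subgroup.commutator_mem_commutator (Subgroup.mem_top x) (Subgroup.mem_top y)
      exact commutatorElement_eq_one_iff_mul_comm.1 this
    let _ : CommGroup P := { (inferInstance : Group P) with mul_comm := hcomm }
    have hp : (Nat.card P).Prime := IsSimpleGroup.prime_card
    rw [hc] at hp
    revert hp
    norm_num
  · exact h

theorem card_isometry :
    Nat.card (Cfsg.isometryGroup (ZMod 3) (Cfsg.quadFormOdd 3 (ZMod 3))) = 4 * 4585351680 := by
  rw [Classical.Quad.card_isometryGroup_eq (Classical.Quad.oddCoord 3)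
    (Classical.Quad.oddCoord_map 3), Classical.Quad.card_oG_odd (q := 3) (ZMod.card 3) (by decide) 3]
  decide +kernel

theorem card_pomega : Nat.card (Cfsg.POmega (ZMod 3) (Cfsg.quadFormOdd 3 (ZMod 3))) = 4585351680 := by
  have hodd : Odd (Fintype.card (ZMod 3)) := by rw [ZMod.card]; decide
  have h : Nat.card (Cfsg.isometryGroup (ZMod 3) (Cfsg.quadFormOdd 3 (ZMod 3))) =
      4 * Nat.card (Cfsg.POmega (ZMod 3) (Cfsg.quadFormOdd 3 (ZMod 3))) :=
    AutPOmega.card_omega_odd (F := ZMod 3) (m := 3) hodd le_rfl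
  rw [card_isometry] at h
  omega

theorem exists_iso : Nonempty (P ≃* Cfsg.POmega (ZMod 3) (Cfsg.quadFormOdd 3 (ZMod 3))) := by
  obtain ⟨χ, hχ⟩ := exists_hom
  have hle : χ.range ≤ Cfsg.Omega (ZMod 3) (Cfsg.quadFormOdd 3 (ZMod 3)) := by
    rw [MonoidHom.range_eq_map, ← commutator_eq_top, map_commutator_eq]
    exact Subgroup.commutator_mono le_top le_top
  let χ' : P →* Cfsg.Omega (ZMod 3) (Cfsg.quadFormOdd 3 (ZMod 3)) :=
    χ.codRestrict _ fun g => hle ⟨g, rfl⟩
  let θ : P →* Cfsg.POmega (ZMod 3) (Cfsg.quadFormOdd 3 (ZMod 3)) :=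
    (QuotientGroup.mk' _).comp χ'
  have hs := order_and_simple.1
  have hinj : Function.Injective θ := by
    rw [← MonoidHom.ker_eq_bot_iff]
    rcases hs.eq_bot_or_eq_top_of_normal θ.ker inferInstance with h | h
    · exact h
    · exfalso
      have hcent : ∀ g, χ' g ∈ Subgroup.center (Cfsg.Omega (ZMod 3) (Cfsg.quadFormOdd 3 (ZMod 3))) := by
        intro g
        have hg : g ∈ θ.ker := h ▸ Subgroup.mem_top g
        exact (QuotientGroup.eq_one_iff _).1 (MonoidHom.mem_ker.1 hg)
      have htriv : ∀ g, χ' g = 1 := by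
        intro g
        have hle' : commutator P ≤ χ'.ker := by
          rw [commutator_def, Subgroup.commutator_le]
          intro x _ y _
          rw [MonoidHom.mem_ker, map_commutatorElement, commutatorElement_eq_one_iff_mul_comm]
          exact (Subgroup.mem_center_iff.1 (hcent y) (χ' x))
        rw [commutator_eq_top] at hle'
        exact hle' (Subgroup.mem_top g)
      have h1 : img 0 = 1 := by
        rw [← hχ 0]
        exact congrArg Subtype.val (htriv (PresentedGroup.of 0))
      have h2 : toMat (mats.getD 0 0) = 1 := congrArg (fun g => (g.1 : Matrix Idx Idx (ZMod 3))) h1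
      have h3 : ∀ j, decode (step (mats.getD 0 0) (unit (pos j))) = decode (unit (pos j)) := by
        intro j; rw [decode_step, h2, Matrix.one_mulVec]
      revert h3
      decide +kernel
  refine ⟨MulEquiv.ofBijective θ ⟨hinj, ?_⟩⟩
  have : Finite P := card_bound.1
  have hfin : Finite (Cfsg.POmega (ZMod 3) (Cfsg.quadFormOdd 3 (ZMod 3))) := by
    apply Nat.finite_of_card_ne_zero
    rw [card_pomega]; norm_num
  exact (Nat.bijective_iff_injective_and_card θ).2
    ⟨hinj, order_and_simple.2.trans card_pomega.symm⟩ |>.2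

theorem ren_preserves : ∀ l ∈ Fi22Chain1.relWords,
    PresentedGroup.mk (Cfsg.Spor.coxRelators Cfsg.Spor.Fi22.edges ∪ {r | r ∈ Cfsg.Spor.Fi22.extra})
      (FreeGroup.mk (l.map fun a => (Fi22Chain1.ren a.1, a.2))) = 1 := by
  intro l hl
  apply Fi22Order.rels_ok
  have h : (Fi22Chain1.relWords.all fun l => decide (l.map (fun a => (Fi22Chain1.ren a.1, a.2)) ∈
      coxWords Fi22U62.genList Cfsg.Spor.Fi22.edges Cfsg.Spor.Fi22.extra)) = true := by
    decide +kernel
  exact of_decide_eq_true (List.all_eq_true.1 h l hl)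

theorem subgroup_iso : Nonempty (↥(Data.sub
    (Cfsg.Spor.coxRelators Cfsg.Spor.Fi22.edges ∪ {r | r ∈ Cfsg.Spor.Fi22.extra})
      Fi22Index14080.subGens) ≃* Cfsg.POmega (ZMod 3) (Cfsg.quadFormOdd 3 (ZMod 3))) := by
  obtain ⟨e⟩ := exists_iso
  obtain ⟨ψ, hψ⟩ := exists_rename Fi22Chain1.relWords Fi22Chain1.ren ren_preserves
  have : Finite P := card_bound.1
  have hrange : Data.sub (Cfsg.Spor.coxRelators Cfsg.Spor.Fi22.edges ∪ {r | r ∈ Cfsg.Spor.Fi22.extra})
      Fi22Index14080.subGens ≤ ψ.range := by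
    rw [Data.sub, MonoidHom.map_closure, Subgroup.closure_le]
    rintro _ ⟨w, hw, rfl⟩
    have : ∃ b : Fin 8, w = FreeGroup.of (Fi22Chain1.ren b) := by
      simp only [Fi22Index14080.subGens, Set.mem_setOf_eq, List.mem_cons, List.not_mem_nil,
        or_false] at hw
      rcases hw with rfl | rfl | rfl | rfl | rfl | rfl | rfl | rfl
      exacts [⟨0, rfl⟩, ⟨1, rfl⟩, ⟨2, rfl⟩, ⟨3, rfl⟩, ⟨4, rfl⟩, ⟨5, rfl⟩, ⟨6, rfl⟩, ⟨7, rfl⟩]
    obtain ⟨b, rfl⟩ := this
    exact ⟨PresentedGroup.mk _ (FreeGroup.of b), by rw [hψ, FreeGroup.map.of]⟩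
  have hle : ψ.range ≤ Data.sub (Cfsg.Spor.coxRelators Cfsg.Spor.Fi22.edges ∪
      {r | r ∈ Cfsg.Spor.Fi22.extra}) Fi22Index14080.subGens := by
    rw [MonoidHom.range_eq_map, ← PresentedGroup.closure_range_of, MonoidHom.map_closure,
      Subgroup.closure_le]
    rintro _ ⟨_, ⟨b, rfl⟩, rfl⟩
    rw [show (PresentedGroup.of b : P) = PresentedGroup.mk _ (FreeGroup.of b) from rfl, hψ,
      FreeGroup.map.of]
    apply Subgroup.mem_map_of_mem
    apply Subgroup.subset_closure
    fin_cases b <;> simp [Fi22Index14080.subGens, Fi22Chain1.ren]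
  have heq := le_antisymm hrange hle
  have hcard : Nat.card ψ.range = 4585351680 := by
    have h1 := Subgroup.card_mul_index (Data.sub (Cfsg.Spor.coxRelators Cfsg.Spor.Fi22.edges ∪
      {r | r ∈ Cfsg.Spor.Fi22.extra}) Fi22Index14080.subGens)
    rw [Fi22Index14080.index_val, Fi22Order.order_and_simple.2, heq] at h1
    omega
  have hinj : Function.Injective ψ := by
    have hb : Function.Bijective ψ.rangeRestrict :=
      (Nat.bijective_iff_surjective_and_card _).2
        ⟨ψ.rangeRestrict_surjective, order_and_simple.2.trans hcard.symm⟩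
    exact fun a b hab => hb.1 (Subtype.ext hab)
  exact ⟨((MulEquiv.subgroupCongr heq).trans (MonoidHom.ofInjective hinj).symm).trans e⟩

end Cfsg.Agent.CosetCert.O73
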